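import Groth.Agent.QIsoLib.Level
import Groth.Agent.ComodLib.Slices
import Mathlib.LinearAlgebra.LinearIndependent.Basic
import Mathlib.RingTheory.Algebraic.Basic

/-!
The decomposition of a split Hopf algebra over a field into finite Galois stable classes of characters.
-/

set_option autoImplicit false
set_option maxHeartbeats 1600000

noncomputable section

universe u

open scoped TensorProduct
open Groth.Agent.TorusField Groth.Agent.QIso WithConv ComodLib

namespace GmReprLib

variable {k : Type u} [Field k] {H : Type u} [CommRing H] [HopfAlgebra k H] {K : Type u}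

section ext

variable [CommRing K] [Algebra k K]

theorem extFun_basis {I : Type u} (b : Module.Basis I k H) (z : K ⊗[k] H) (i : I) :
    (Algebra.TensorProduct.basis K b).repr z i = extFun K (b.coord i) z := by
  induction z using TensorProduct.induction_on with
  | zero => simp
  | add x y hx hy => simp only [map_add, Finsupp.add_apply, hx, hy]
  | tmul s x => simp [extFun_tmul, Algebra.smul_def, mul_comm]

theorem ext_extFun {z z' : K ⊗[k] H} (h : ∀ δ : H →ₗ[k] k, extFun K δ z = extFun K δ z') : z = z' :=
  (Algebra.TensorProduct.basis K (Module.Basis.ofVectorSpace k H)).repr.injective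
    (Finsupp.ext fun i => by rw [extFun_basis, extFun_basis, h])

theorem apply_sliceL (φ : K →ₗ[k] k) (δ : H →ₗ[k] k) (z : K ⊗[k] H) : δ (sliceL φ z) = φ (extFun K δ z) := by
  induction z using TensorProduct.induction_on with
  | zero => simp
  | add x y hx hy => simp only [map_add, hx, hy]
  | tmul s x => simp [extFun_tmul, mul_comm]

theorem exists_fg_extFun (z : K ⊗[k] H) :
    ∃ V : Submodule k K, V.FG ∧ ∀ δ : H →ₗ[k] k, extFun K δ z ∈ V := by
  induction z using TensorProduct.induction_on with
  | zero => exact ⟨⊥, Submodule.fg_bot, fun δ => by simp⟩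
  | add x y hx hy =>
    obtain ⟨V, hV, hx⟩ := hx
    obtain ⟨V', hV', hy⟩ := hy
    exact ⟨V ⊔ V', hV.sup hV', fun δ => by
      rw [map_add]
      exact add_mem (Submodule.mem_sup_left (hx δ)) (Submodule.mem_sup_right (hy δ))⟩
  | tmul s x =>
    exact ⟨Submodule.span k {s}, Submodule.fg_span_singleton s, fun δ => by
      rw [extFun_tmul]
      exact Submodule.smul_mem _ _ (Submodule.mem_span_singleton_self s)⟩

end ext

variable [Field K] [Algebra k K] [Algebra.IsAlgebraic k K] [Coalgebra.IsCocomm k H]
  {M : Type u} [AddCommGroup M]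

/-- Orthogonal idempotent functionals cut out finite classes of characters. -/
theorem exists_classes (E : Split k H M K) :
    ∃ (I : Type u) (pr : I → WithConv (H →ₗ[k] k)) (cl : I → Finset M),
      (∀ i, pr i * pr i = pr i) ∧ (∀ i j, i ≠ j → pr i * pr j = 0) ∧
      (∀ h : H, ∃ F : Finset I, ∀ G, F ⊆ G → ∑ i ∈ G, (pr i).ofConv h = CoalgebraStruct.counit (R := k) h) ∧
      ∀ i (y : K ⊗[k] H), extFun K (pr i).ofConv y = ∑ n ∈ cl i, E.e.coord n y := by
  classical
  let ev : M → (WithConv (H →ₗ[k] k) →ₐ[k] K) := fun n => evalHom (E.gl n)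
  have hev : ∀ n δ, ev n δ = extFun K δ.ofConv (E.e n) := fun n δ => evalHom_apply _ _
  have hevinj : Function.Injective fun n => ((ev n).toRingHom.toMonoidHom : WithConv (H →ₗ[k] k) →* K) := by
    intro n m hnm
    exact E.e.injective (ext_extFun fun δ => by
      have h := DFunLike.congr_fun hnm (toConv δ)
      simpa [hev] using h)
  have hli : LinearIndependent K (fun n => ((ev n).toRingHom.toMonoidHom : WithConv (H →ₗ[k] k) → K)) :=
    (linearIndependent_monoidHom (WithConv (H →ₗ[k] k)) K).comp _ hevinj
  have hext : ∀ f g : WithConv (H →ₗ[k] k), (∀ n, ev n f = ev n g) → f = g := by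
    intro f g h
    refine WithConv.ext (LinearMap.ext fun x => (algebraMap k K).injective ?_)
    have e : extFun K f.ofConv = extFun K g.ofConv := E.e.ext fun n => by rw [← hev, ← hev, h]
    simpa [extFun_tmul, Algebra.algebraMap_eq_smul_one] using LinearMap.congr_fun e ((1 : K) ⊗ₜ[k] x)
  let J : M → Ideal (WithConv (H →ₗ[k] k)) := fun n => RingHom.ker (ev n).toRingHom
  have hmemJ : ∀ n f, f ∈ J n ↔ ev n f = 0 := fun n f => RingHom.mem_ker
  have hJ : ∀ n m, J n ≤ J m → J m = J n := by
    intro n m hle
    refine le_antisymm (fun f hf => ?_) hle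
    rw [hmemJ] at hf ⊢
    by_contra hne
    obtain ⟨g, hg⟩ := Subalgebra.inv_mem_of_algebraic (ev n).range (x := ⟨ev n f, f, rfl⟩)
      (Algebra.IsAlgebraic.isAlgebraic _)
    have h1 : f * g - 1 ∈ J n := by
      rw [hmemJ, map_sub, map_mul, map_one, show ev n g = (ev n f)⁻¹ from hg, mul_inv_cancel₀ hne, sub_self]
    have h2 := (hmemJ m _).1 (hle h1)
    rw [map_sub, map_mul, hf, zero_mul, map_one, zero_sub, neg_eq_zero] at h2
    exact one_ne_zero h2
  -- each class is finite
  have hfin : ∀ n, {m | J m = J n}.Finite := by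
    intro n
    obtain ⟨V, hV, hVmem⟩ := exists_fg_extFun (E.e n)
    haveI : Module.Finite k V := Module.Finite.iff_fg.2 hV
    haveI : Module.Finite k (LinearMap.range (ev n).toLinearMap) :=
      Submodule.finiteDimensional_of_le (S₂ := V) (by rintro _ ⟨f, rfl⟩; exact hVmem f.ofConv)
    obtain ⟨d, s, hs⟩ := Module.Finite.exists_fin (R := k) (M := LinearMap.range (ev n).toLinearMap)
    choose f hf using fun i => (s i).2
    have hv : LinearIndependent K (fun m : {m | J m = J n} => fun i => ev m.1 (f i)) := by
      rw [linearIndependent_iff']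
      intro t c hc m hm
      refine linearIndependent_iff'.1 (hli.comp (Subtype.val : {m | J m = J n} → M) Subtype.val_injective)
        t c ?_ m hm
      funext g
      simp only [Finset.sum_apply, Pi.smul_apply, Function.comp_apply, smul_eq_mul, Pi.zero_apply]
      obtain ⟨r, hr⟩ := (Submodule.mem_span_range_iff_exists_fun k).1
        (hs.symm ▸ Submodule.mem_top : (⟨ev n g, g, rfl⟩ : LinearMap.range (ev n).toLinearMap) ∈
          Submodule.span k (Set.range s))
      have hg : g - ∑ i, r i • f i ∈ J n := by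
        rw [hmemJ, map_sub, map_sum, sub_eq_zero]
        have h3 := congrArg Subtype.val hr
        simp only [AddSubmonoidClass.coe_finsetSum, SetLike.val_smul] at h3
        rw [← h3]
        exact Finset.sum_congr rfl fun i _ => by rw [map_smul, ← hf i]; rfl
      have h4 : ∀ m : {m | J m = J n}, ev m.1 g = ∑ i, r i • ev m.1 (f i) := fun m => by
        have h5 := (hmemJ m.1 _).1 (m.2.symm ▸ hg : g - ∑ i, r i • f i ∈ J m.1)
        rw [map_sub, map_sum, sub_eq_zero] at h5
        rw [h5]
        exact Finset.sum_congr rfl fun i _ => map_smul _ _ _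
      show ∑ m ∈ t, c m * ev m.1 g = 0
      simp only [h4, Finset.mul_sum, mul_smul_comm]
      rw [Finset.sum_comm]
      refine Finset.sum_eq_zero fun i _ => ?_
      rw [← Finset.smul_sum]
      have h6 := congrFun hc i
      simp only [Finset.sum_apply, Pi.smul_apply, smul_eq_mul, Pi.zero_apply] at h6
      rw [h6, smul_zero]
    exact Set.finite_coe_iff.1 hv.finite
  -- coefficients
  have hcoef : ∀ (f : WithConv (H →ₗ[k] k)) (x : H), algebraMap k K (f.ofConv x) =
      ∑ m ∈ (E.e.repr ((1 : K) ⊗ₜ[k] x)).support, E.e.repr ((1 : K) ⊗ₜ[k] x) m * ev m f := fun f x => by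
    have h := congrArg (extFun K f.ofConv) (E.e.linearCombination_repr ((1 : K) ⊗ₜ[k] x))
    rw [Finsupp.linearCombination_apply, Finsupp.sum, map_sum, extFun_tmul, ← Algebra.algebraMap_eq_smul_one] at h
    rw [← h]
    exact Finset.sum_congr rfl fun m _ => by rw [map_smul, smul_eq_mul, hev]
  have hsupp : ∀ (n : M) (φ : K →ₗ[k] k) (m : M),
      E.e.repr ((1 : K) ⊗ₜ[k] sliceL φ (E.e n)) m ≠ 0 → J m = J n := by
    intro n φ m hm
    refine hJ n m fun f hf => ?_
    rw [hmemJ] at hf ⊢
    set x := sliceL φ (E.e n) with hx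
    set c := E.e.repr ((1 : K) ⊗ₜ[k] x) with hc
    have h1 := linearIndependent_iff'.1 hli c.support (fun m => c m * ev m f) (funext fun g => by
      simp only [Finset.sum_apply, Pi.smul_apply, smul_eq_mul, Pi.zero_apply]
      show ∑ m ∈ c.support, c m * ev m f * ev m g = 0
      rw [Finset.sum_congr rfl (fun m _ => show c m * ev m f * ev m g = c m * ev m (f * g) by rw [map_mul, mul_assoc]),
        hc, ← hcoef, hx, apply_sliceL, ← hev, map_mul, hf, zero_mul, map_zero, map_zero])
      m (Finsupp.mem_support_iff.2 hm)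
    exact (mul_eq_zero.1 h1).resolve_left hm
  let I : Type u := ↥(Set.range J)
  let cl : I → Finset M := fun i => (show {m | J m = i.1}.Finite by
    obtain ⟨n, hn⟩ := i.2
    rw [← hn]
    exact hfin n).toFinset
  have hcl : ∀ i m, m ∈ cl i ↔ J m = i.1 := fun i m => Set.Finite.mem_toFinset _
  let P : I → (K ⊗[k] H →ₗ[K] K) := fun i => ∑ n ∈ cl i, E.e.coord n
  have hPe : ∀ i m, P i (E.e m) = if J m = i.1 then 1 else 0 := fun i m => by
    simp [P, Finsupp.single_apply, hcl]
  -- the values on rational vectors are rational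
  have hrat : ∀ i (h : H), P i ((1 : K) ⊗ₜ[k] h) ∈ (Algebra.linearMap k K).range := by
    intro i h
    obtain ⟨ret, hret⟩ := LinearMap.exists_leftInverse_of_injective (Algebra.linearMap k K)
      (LinearMap.ker_eq_bot.2 (algebraMap k K).injective)
    have hslice : ∀ (l : K) (z : K ⊗[k] H), sliceL ret (l • z) = sliceL (ret ∘ₗ LinearMap.mulLeft k l) z := by
      intro l z
      induction z using TensorProduct.induction_on with
      | zero => simp
      | add x y hx hy => simp only [smul_add, map_add, hx, hy]
      | tmul s x => simp [TensorProduct.smul_tmul']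
    have hh : h = ∑ n ∈ (E.e.repr ((1 : K) ⊗ₜ[k] h)).support,
        sliceL (ret ∘ₗ LinearMap.mulLeft k (E.e.repr ((1 : K) ⊗ₜ[k] h) n)) (E.e n) := by
      have h1 := congrArg (sliceL ret) (E.e.linearCombination_repr ((1 : K) ⊗ₜ[k] h))
      rw [Finsupp.linearCombination_apply, Finsupp.sum, map_sum, sliceL_tmul] at h1
      have h2 : ret 1 = 1 := by simpa using LinearMap.congr_fun hret 1
      rw [h2, one_smul] at h1
      conv_lhs => rw [← h1]
      exact Finset.sum_congr rfl fun n _ => hslice _ _
    rw [hh, TensorProduct.tmul_sum, map_sum]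
    refine Submodule.sum_mem _ fun n _ => ?_
    generalize ret ∘ₗ LinearMap.mulLeft k (E.e.repr ((1 : K) ⊗ₜ[k] h) n) = φ
    set x := sliceL φ (E.e n) with hx
    have hval : P i ((1 : K) ⊗ₜ[k] x) = if J n = i.1 then algebraMap k K (CoalgebraStruct.counit (R := k) x) else 0 := by
      have h3 := congrArg (P i) (E.e.linearCombination_repr ((1 : K) ⊗ₜ[k] x))
      rw [Finsupp.linearCombination_apply, Finsupp.sum, map_sum] at h3
      rw [← h3]
      have h4 : CoalgebraStruct.counit (R := k) x = (1 : WithConv (H →ₗ[k] k)).ofConv x := by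
        simp [LinearMap.convOne_def]
      rw [h4, hcoef]
      by_cases hni : J n = i.1
      · rw [if_pos hni]
        refine Finset.sum_congr rfl fun m hm => ?_
        rw [map_smul, hPe, if_pos ((hsupp n φ m (Finsupp.mem_support_iff.1 hm)).trans hni), map_one]
        simp
      · rw [if_neg hni]
        refine Finset.sum_eq_zero fun m hm => ?_
        rw [map_smul, hPe, if_neg (fun e => hni ((hsupp n φ m (Finsupp.mem_support_iff.1 hm)).symm.trans e)), smul_zero]
    rw [hval]
    split_ifs
    · exact ⟨_, rfl⟩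
    · exact Submodule.zero_mem _
  obtain ⟨ret, hret⟩ := LinearMap.exists_leftInverse_of_injective (Algebra.linearMap k K)
    (LinearMap.ker_eq_bot.2 (algebraMap k K).injective)
  let pr : I → WithConv (H →ₗ[k] k) := fun i =>
    toConv (ret ∘ₗ (P i).restrictScalars k ∘ₗ TensorProduct.mk k K H 1)
  have hpr : ∀ i (y : K ⊗[k] H), extFun K (pr i).ofConv y = P i y := by
    intro i y
    induction y using TensorProduct.induction_on with
    | zero => simp
    | add x y hx hy => simp only [map_add, hx, hy]
    | tmul s h =>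
      obtain ⟨r, hr⟩ := hrat i h
      rw [extFun_tmul, show (pr i).ofConv h = ret (P i ((1 : K) ⊗ₜ[k] h)) from rfl, ← hr,
        show ret (Algebra.linearMap k K r) = r from LinearMap.congr_fun hret r]
      conv_rhs => rw [show s ⊗ₜ[k] h = s • ((1 : K) ⊗ₜ[k] h) by rw [TensorProduct.smul_tmul', smul_eq_mul, mul_one],
        map_smul, ← hr]
      rw [Algebra.linearMap_apply, smul_eq_mul, Algebra.smul_def, mul_comm]
  have hevp : ∀ i m, ev m (pr i) = if J m = i.1 then 1 else 0 := fun i m => by rw [hev, hpr, hPe]
  refine ⟨I, pr, cl, fun i => hext _ _ fun m => ?_, fun i j hij => hext _ _ fun m => ?_, fun h => ?_, fun i y => ?_⟩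
  · rw [map_mul, hevp]
    split_ifs <;> simp
  · rw [map_mul, hevp, hevp, map_zero]
    by_cases h1 : J m = i.1
    · rw [if_neg fun h2 : J m = j.1 => hij (Subtype.ext (h1.symm.trans h2)), mul_zero]
    · rw [if_neg h1, zero_mul]
  · refine ⟨(E.e.repr ((1 : K) ⊗ₜ[k] h)).support.image fun m => ⟨J m, m, rfl⟩, fun G hG => (algebraMap k K).injective ?_⟩
    have h4 : CoalgebraStruct.counit (R := k) h = (1 : WithConv (H →ₗ[k] k)).ofConv h := by
      simp [LinearMap.convOne_def]
    rw [map_sum, h4, hcoef, Finset.sum_congr rfl (fun i _ => hcoef (pr i) h), Finset.sum_comm]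
    refine Finset.sum_congr rfl fun m hm => ?_
    rw [← Finset.mul_sum, Finset.sum_eq_single_of_mem (⟨J m, m, rfl⟩ : I) (hG (Finset.mem_image_of_mem _ hm))
      (fun i _ hi => by rw [hevp, if_neg fun e => hi (Subtype.ext e.symm)]), hevp, if_pos rfl, map_one]
  · rw [hpr]
    simp [P]

end GmReprLib
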