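import Groth.Agent.GmReprLib.Classes
import Groth.Agent.MultUnipLib.Weights
import Groth.Agent.UnipHopfLib.Component
import Groth.Agent.DiagHopfLib.Groups
import Groth.Agent.HopfFFLib.Normal.Correspondence
import Groth.Agent.UnipSplitLib.Main
import Mathlib.RingTheory.Finiteness.Descent
import Mathlib.RingTheory.Bialgebra.TensorProduct

/-!
The pieces of a Hopf algebra cut out by finitely many characters of a cofinite subgroup are finite.
-/

set_option autoImplicit false
set_option maxHeartbeats 1600000

noncomputable section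

universe u

open TensorProduct ComodLib WithConv
open Groth.Agent Groth.Agent.MultUnip

namespace GmReprLib

section field

variable {k : Type u} [Field k] {A : Type u} [CommRing A] [HopfAlgebra k A] [Coalgebra.IsCocomm k A]
  {H : Type u} [CommRing H] [HopfAlgebra k H] {M : Type u} [CommGroup M]

theorem actL_eq_actR (f : A →ₗ[k] k) : actL f = actR f := by
  refine LinearMap.ext fun a => ?_
  have key : ∀ z : A ⊗[k] A, slice f (TensorProduct.comm k A A z) = sliceL f z := fun z => by
    induction z using TensorProduct.induction_on with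
    | zero => simp
    | add x y hx hy => simp only [map_add, hx, hy]
    | tmul x y => simp
  show sliceL f (CoalgebraStruct.comul (R := k) a) = slice f (CoalgebraStruct.comul (R := k) a)
  rw [← key, Coalgebra.comm_comul]

/-- Finiteness of the invariants propagates to every weight. -/
theorem finite_WR {q : A →ₐc[k] H} {β : Module.Basis M k H} (h : Diag q β)
    (hI : Module.Finite k (WR q β 1)) (n : M) : Module.Finite k (WR q β n) := by
  classical
  obtain ⟨y, hy⟩ := h.surj (β n)
  set f := prR q β n y with hf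
  have hfmem : f ∈ WR q β n := h.prR_mem n y
  have hεf : CoalgebraStruct.counit (R := k) f = 1 := by
    rw [← CoalgHomClass.counit_comp_apply q, hf, h.map_prR, map_smul, h.counit_eq, smul_eq_mul, mul_one]
    show β.coord n (q y) = 1
    rw [hy]
    simp
  have hΔ : CoalgebraStruct.comul (R := k) f =
      LinearMap.rTensor A (prR q β n) (CoalgebraStruct.comul (R := k) f) := by
    rw [prR, rTensor_actR_comul, actL_eq_actR, ← comul_actR]
    exact congrArg _ (prR_self hfmem).symm
  obtain ⟨S, hS⟩ := TensorProduct.exists_finset (CoalgebraStruct.comul (R := k) f)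
  let W : Submodule k A := ⨆ p : S, (WR q β 1).map (LinearMap.mulRight k p.1.2)
  haveI : Module.Finite k W := Module.Finite.iff_fg.2 <| Submodule.fg_iSup _ fun p =>
    (Module.Finite.iff_fg.1 hI).map _
  refine Submodule.finiteDimensional_of_le (S₂ := W) fun b hb => ?_
  have h1 : b = LinearMap.mul' k A (TensorProduct.map (LinearMap.mulLeft k b ∘ₗ HopfAlgebraStruct.antipode (R := k)
      ∘ₗ prR q β n) LinearMap.id (CoalgebraStruct.comul (R := k) f)) := by
    have h2 : ∀ z : A ⊗[k] A, LinearMap.mul' k A (TensorProduct.map (LinearMap.mulLeft k b ∘ₗ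
        HopfAlgebraStruct.antipode (R := k) ∘ₗ prR q β n) LinearMap.id z) =
        b * LinearMap.mul' k A (LinearMap.rTensor A (HopfAlgebraStruct.antipode (R := k))
          (LinearMap.rTensor A (prR q β n) z)) := fun z => by
      induction z using TensorProduct.induction_on with
      | zero => simp
      | add x y hx hy => simp only [map_add, mul_add, hx, hy]
      | tmul x y => simp [mul_assoc]
    rw [h2, ← hΔ, HopfAlgebra.mul_antipode_rTensor_comul_apply, hεf, map_one, mul_one]
  rw [h1, hS, map_sum, map_sum]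
  refine Submodule.sum_mem _ fun p hp => Submodule.mem_iSup_of_mem (⟨p, hp⟩ : S) ?_
  refine ⟨b * HopfAlgebraStruct.antipode (R := k) (prR q β n p.1), ?_, by simp⟩
  have h3 : prR q β n p.1 ∈ WL q β n := by
    rw [show prR q β n = prL q β n from (actL_eq_actR _).symm]
    exact h.prL_mem n _
  show _ ∈ WR q β 1
  rw [← mul_inv_cancel n]
  exact h.mul_mem_WR hb (h.antipode_mem_WR h3)

end field

variable {k : Type u} [Field k] {A : Type u} [CommRing A] [HopfAlgebra k A] [Coalgebra.IsCocomm k A]
  {H : Type u} [CommRing H] [HopfAlgebra k H] {K : Type u} [Field K] [Algebra k K]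
  {M : Type u} [AddCommGroup M] {C : Type u} [CommRing C] [HopfAlgebra k C] [Module.Finite k C]

/-- The range of a rational projection to finitely many weights is finite. -/
theorem finite_actR (q : A →ₐc[k] H) (hq : Function.Surjective q) (φ : C →ₐc[k] A)
    (hker : RingHom.ker (q : A →+* H) ≤ Ideal.map (φ : C →+* A) (RingHom.ker (Bialgebra.counitAlgHom k C)))
    (E : TorusField.Split k H M K) (p : H →ₗ[k] k) (cl : Finset M)
    (hp : ∀ y : K ⊗[k] H, QIso.extFun K p y = ∑ n ∈ cl, E.e.coord n y) :
    Module.Finite k (LinearMap.range (actR (p ∘ₗ (q : A →ₐ[k] H).toLinearMap))) := by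
  classical
  haveI := UnipHopf.isCocomm_baseChange (k := k) (A := A) K
  let qK : K ⊗[k] A →ₐc[K] K ⊗[k] H := Bialgebra.TensorProduct.map (BialgHom.id K K) q
  let φK : K ⊗[k] C →ₐc[K] K ⊗[k] A := Bialgebra.TensorProduct.map (BialgHom.id K K) φ
  have hqK : Function.Surjective qK := by
    intro z
    induction z using TensorProduct.induction_on with
    | zero => exact ⟨0, map_zero _⟩
    | add x y hx hy =>
      obtain ⟨a, rfl⟩ := hx; obtain ⟨b, rfl⟩ := hy
      exact ⟨a + b, map_add _ _ _⟩
    | tmul x y =>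
      obtain ⟨y, rfl⟩ := hq y
      exact ⟨x ⊗ₜ y, rfl⟩
  let β : Module.Basis (Multiplicative M) K (K ⊗[k] H) := E.e.reindex Multiplicative.ofAdd
  have hβ : ∀ m, β m = E.e m.toAdd := fun m => by simp [β]
  have hD : Diag qK β :=
    { one := by rw [hβ]; exact E.e_zero
      mul := fun m n => by rw [hβ, hβ, hβ]; exact E.e_add _ _
      gl := fun m => by rw [hβ]; exact (DiagHopf.groupLike_of_isGL (E.gl _)).comul_eq_tmul_self
      surj := hqK }
  -- the invariants are finite
  have hI : Module.Finite K (WR qK β 1) := by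
    haveI : Module.Finite K (LinearMap.range (φK : K ⊗[k] C →ₐ[K] K ⊗[k] A).toLinearMap) :=
      Module.Finite.range _
    refine Submodule.finiteDimensional_of_le
      (S₂ := LinearMap.range (φK : K ⊗[k] C →ₐ[K] K ⊗[k] A).toLinearMap) fun a ha => ?_
    let J := Ideal.map (φK : K ⊗[k] C →+* K ⊗[k] A) (RingHom.ker (Bialgebra.counitAlgHom K (K ⊗[k] C)))
    haveI : J.IsHopfIdeal K := UnipSplit.isHopfIdeal_map φK
    have hle : J ≤ SGA3.augIdealSpan K (K ⊗[k] A) (φK : K ⊗[k] C →ₐ[K] K ⊗[k] A).range :=
      Ideal.map_le_iff_le_comap.2 fun c hc =>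
      Ideal.subset_span ⟨⟨c, rfl⟩, by
        show CoalgebraStruct.counit (R := K) (φK c) = 0
        rw [CoalgHomClass.counit_comp_apply]; exact hc⟩
    have hkerK : RingHom.ker (qK : K ⊗[k] A →ₐ[K] K ⊗[k] H) ≤ J := by
      intro z hz
      have h1 : z ∈ RingHom.ker (Algebra.TensorProduct.map (AlgHom.id k K) (q : A →ₐ[k] H)) := by
        rw [RingHom.mem_ker] at hz ⊢
        rw [← hz]
        clear hz
        induction z using TensorProduct.induction_on with
        | zero => simp
        | add x y hx hy => simp only [map_add, hx, hy]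
        | tmul x y => rfl
      rw [Algebra.TensorProduct.lTensor_ker (A := K) (q : A →ₐ[k] H) hq] at h1
      refine Ideal.map_le_iff_le_comap.2 (le_trans hker (Ideal.map_le_iff_le_comap.2 fun c hc => ?_)) h1
      have h2 : (1 : K) ⊗ₜ[k] c ∈ RingHom.ker (Bialgebra.counitAlgHom K (K ⊗[k] C)) := by
        rw [RingHom.mem_ker]
        show CoalgebraStruct.counit (R := K) ((1 : K) ⊗ₜ[k] c) = 0
        rw [TensorProduct.counit_tmul, show CoalgebraStruct.counit (R := k) c = 0 from hc, zero_smul]
      exact Ideal.mem_map_of_mem (φK : K ⊗[k] C →+* K ⊗[k] A) h2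
    let r : K ⊗[k] H →ₐ[K] (K ⊗[k] A) ⧸ J :=
      (Ideal.Quotient.liftₐ (RingHom.ker (qK : K ⊗[k] A →ₐ[K] K ⊗[k] H)) (HopfFF.qmap (k := K) J)
        fun x hx => (HopfFF.qmap_eq_zero (k := K) J).2 (hkerK hx)).comp
      (Ideal.quotientKerAlgEquivOfSurjective (f := (qK : K ⊗[k] A →ₐ[K] K ⊗[k] H)) hqK).symm.toAlgHom
    have hr : ∀ x, r (qK x) = HopfFF.qmap (k := K) J x := fun x => by
      have h1 : (Ideal.quotientKerAlgEquivOfSurjective (f := (qK : K ⊗[k] A →ₐ[K] K ⊗[k] H)) hqK).symm (qK x) =
          Ideal.Quotient.mk _ x := (AlgEquiv.symm_apply_eq _).2 rfl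
      refine (congrArg (Ideal.Quotient.liftₐ (RingHom.ker (qK : K ⊗[k] A →ₐ[K] K ⊗[k] H)) (HopfFF.qmap (k := K) J)
        fun x hx => (HopfFF.qmap_eq_zero (k := K) J).2 (hkerK hx)) h1).trans ?_
      rfl
    have hmem : a ∈ HopfFF.coinv K J := by
      rw [HopfFF.mem_coinv]
      show _ = a ⊗ₜ[K] (1 : (K ⊗[k] A) ⧸ J)
      have h1 := congrArg (LinearMap.lTensor (K ⊗[k] A) r.toLinearMap) ((mem_WR qK β).1 ha)
      rw [LinearMap.lTensor_tmul, show β (1 : Multiplicative M) = 1 from hD.one,
        show r.toLinearMap (1 : K ⊗[k] H) = 1 from map_one r, lamR_apply, ← LinearMap.lTensor_comp_apply] at h1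
      rw [← h1]
      generalize CoalgebraStruct.comul (R := K) a = z
      induction z using TensorProduct.induction_on with
      | zero => simp
      | add x y hx hy => simp only [map_add, hx, hy]
      | tmul x y => exact congrArg (x ⊗ₜ[K] ·) (hr y).symm
    obtain ⟨c, hc⟩ := HopfFF.coinv_le_of_le_augSpan (HopfFF.isSubHopf_range φK) hle hmem
    exact ⟨c, hc⟩
  set P := actR (p ∘ₗ (q : A →ₐ[k] H).toLinearMap) with hP
  let W : Submodule K (K ⊗[k] A) := ⨆ n : cl, WR qK β (Multiplicative.ofAdd n.1)
  haveI : Module.Finite K W := Module.Finite.iff_fg.2 <| Submodule.fg_iSup _ fun n =>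
    Module.Finite.iff_fg.1 (finite_WR hD hI _)
  -- the base change of the range
  have hPK : ∀ a : A, (1 : K) ⊗ₜ[k] P a ∈ W := by
    intro a
    have h1 : (1 : K) ⊗ₜ[k] P a = ∑ n ∈ cl, prR qK β (Multiplicative.ofAdd n) ((1 : K) ⊗ₜ[k] a) := by
      simp only [prR_eq, lamR_apply, UnipHopf.comul_one_tmul]
      show (1 : K) ⊗ₜ[k] slice (p ∘ₗ (q : A →ₐ[k] H).toLinearMap) (CoalgebraStruct.comul (R := k) a) = _
      generalize CoalgebraStruct.comul (R := k) a = z
      induction z using TensorProduct.induction_on with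
      | zero => simp
      | add x y hx hy => simp only [map_add, TensorProduct.tmul_add, Finset.sum_add_distrib, hx, hy]
      | tmul x y =>
        simp only [UnipHopf.incSq_tmul, LinearMap.lTensor_tmul, slice_tmul, ← Finset.sum_smul]
        have h2 := hp ((1 : K) ⊗ₜ[k] q y)
        rw [QIso.extFun_tmul] at h2
        rw [show ∑ n ∈ cl, β.coord (Multiplicative.ofAdd n) ((qK : K ⊗[k] A →ₐ[K] K ⊗[k] H).toLinearMap ((1 : K) ⊗ₜ[k] y)) =
          ∑ n ∈ cl, E.e.coord n ((1 : K) ⊗ₜ[k] q y) from Finset.sum_congr rfl fun n _ => by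
            simp [β, qK, Module.Basis.repr_reindex_apply], ← h2]
        show (1 : K) ⊗ₜ[k] (p (q y) • x) = (p (q y) • (1 : K)) • ((1 : K) ⊗ₜ[k] x)
        rw [TensorProduct.tmul_smul, smul_assoc, one_smul]
    rw [h1]
    exact Submodule.sum_mem _ fun n hn => Submodule.mem_iSup_of_mem (⟨n, hn⟩ : cl) (hD.prR_mem _ _)
  let ι' := (LinearMap.range P).subtype.baseChange K
  have hι : Function.Injective ι' := by
    show Function.Injective ⇑(LinearMap.lTensor K (LinearMap.range P).subtype)
    exact Module.Flat.lTensor_preserves_injective_linearMap _ Subtype.val_injective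
  have hιW : ∀ z, ι' z ∈ W := by
    intro z
    induction z using TensorProduct.induction_on with
    | zero => simp
    | add x y hx hy => rw [map_add]; exact add_mem hx hy
    | tmul s x =>
      obtain ⟨_, a, rfl⟩ := x
      have h3 : ι' (s ⊗ₜ[k] ⟨P a, a, rfl⟩) = s • ((1 : K) ⊗ₜ[k] P a) := by
        simp [ι', TensorProduct.smul_tmul']
      rw [h3]
      exact Submodule.smul_mem _ _ (hPK a)
  haveI : Module.Finite K (K ⊗[k] LinearMap.range P) :=
    Module.Finite.of_injective (ι'.codRestrict W hιW) (LinearMap.injective_codRestrict_iff hιW |>.2 hι)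
  exact Module.Finite.of_finite_tensorProduct_of_faithfullyFlat K

end GmReprLib
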