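import Groth.Agent.GmBidualLib.Points
import Mathlib.AlgebraicGeometry.Limits
import Mathlib.CategoryTheory.Monoidal.Cartesian.Grp

/-!
A sheaf covered by a disjoint family of finite algebras is represented by a group scheme.
-/

set_option autoImplicit false
set_option backward.isDefEq.respectTransparency false
set_option linter.style.haveILetI false
set_option maxHeartbeats 1600000
universe u

open CategoryTheory CategoryTheory.Limits MonoidalCategory CartesianMonoidalCategory AlgebraicGeometry Opposite CoactBr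
open scoped MonObj TensorProduct

attribute [local instance] CoactBr.braidedAlgSpecOf
attribute [-instance] CategoryTheory.Hom.commGroup

noncomputable section

namespace GmReprLib

variable {k : Type u} [Field k]

/-- The open piece of an affine object at a function. -/
theorem isOpenImmersion_away {C : Type u} [CommRing C] [Algebra k C] (g : C) :
    IsOpenImmersion (pt (IsScalarTower.toAlgHom k C (Localization.Away g))).left :=
  IsOpenImmersion.of_isLocalization (S := Localization.Away g) g

theorem mem_range_away {C : Type u} [CommRing C] [Algebra k C] (g : C) (p : PrimeSpectrum C) (hp : g ∉ p.asIdeal) :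
    p ∈ Set.range (pt (IsScalarTower.toAlgHom k C (Localization.Away g))).left := by
  have h := PrimeSpectrum.localization_away_comap_range (Localization.Away g) g
  have h2 : p ∈ (PrimeSpectrum.basicOpen g : Set (PrimeSpectrum C)) := hp
  rw [← h] at h2
  exact h2

/-- Open pieces that cover give a covering sieve. -/
theorem mem_of_cover {Z : Over (Spec (CommRingCat.of k))} {I : Type u} {Y : I → Over (Spec (CommRingCat.of k))}
    (e : ∀ i, Y i ⟶ Z) (he : ∀ i, IsOpenImmersion (e i).left) (hc : ∀ z : Z.left, ∃ i, z ∈ Set.range (e i).left) :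
    Sieve.ofArrows Y e ∈ QuotSh.J Scheme.fppfPrecoverage (Spec (CommRingCat.of k)) Z := by
  refine AdeqModLib.ofArrows_mem _ ((Scheme.ofArrows_mem_precoverage_iff _).2 ⟨fun y => ?_, fun i => ?_⟩)
  · obtain ⟨i, w, hw⟩ := hc y
    exact ⟨i, w, hw⟩
  · change (@Flat ⊓ @LocallyOfFinitePresentation : MorphismProperty Scheme.{u}) (e i).left
    haveI := he i
    exact ⟨inferInstance, inferInstance⟩

variable {P : BigSite.Ab Scheme.fppfPrecoverage (Spec (CommRingCat.of k))} {I : Type u} (R : I → Type u)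
  [∀ i, CommRing (R i)] [∀ i, Algebra k (R i)] [∀ i, Module.Finite k (R i)]
  (t : ∀ i, P.obj.obj (op (sp k (R i))))

/-- A sheaf locally given by a disjoint family of universal sections is representable. -/
theorem exists_repr
    (htriv : ∀ (C : Type u) [CommRing C] [Algebra k C] [Subsingleton C], Subsingleton (P.obj.obj (op (sp k C))))
    (hdisj : ∀ (C : Type u) [CommRing C] [Algebra k C] (i j : I) (φ : R i →ₐ[k] C) (ψ : R j →ₐ[k] C),
      i ≠ j → P.obj.map (pt φ).op (t i) = P.obj.map (pt ψ).op (t j) → Subsingleton C)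
    (hinj : ∀ (C : Type u) [CommRing C] [Algebra k C] (i : I) (φ ψ : R i →ₐ[k] C),
      P.obj.map (pt φ).op (t i) = P.obj.map (pt ψ).op (t i) → φ = ψ)
    (hloc : ∀ (C : Type u) [CommRing C] [Algebra k C] (x : P.obj.obj (op (sp k C))) (p : PrimeSpectrum C),
      ∃ g : C, g ∉ p.asIdeal ∧ ∃ (i : I) (φ : R i →ₐ[k] Localization.Away g),
        P.obj.map (pt φ).op (t i) =
          P.obj.map (pt (IsScalarTower.toAlgHom k C (Localization.Away g))).op x) :
    ∃ (D : Over (Spec (CommRingCat.of k))) (_ : GrpObj D) (_ : IsCommMonObj D), LocallyOfFiniteType D.hom ∧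
      Nonempty (CGrpSh.pts Scheme.fppfPrecoverage D ≅ P) := by
  classical
  let D : Over (Spec (CommRingCat.of k)) := Over.mk (Sigma.desc fun i => (sp k (R i)).hom)
  let inD : ∀ i, sp k (R i) ⟶ D := fun i =>
    Over.homMk (Sigma.ι (fun i => (sp k (R i)).left) i) (Sigma.ι_desc _ i)
  have hlft : LocallyOfFiniteType D.hom := by
    refine IsZariskiLocalAtSource.sigmaDesc (P := @LocallyOfFiniteType) fun i => ?_
    exact (HasRingHomProperty.Spec_iff (P := @LocallyOfFiniteType) (φ := CommRingCat.ofHom (algebraMap k (R i)))).2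
      (RingHom.finiteType_algebraMap.2 inferInstance)
  have hoi : ∀ i, IsOpenImmersion (inD i).left := fun i =>
    inferInstanceAs (IsOpenImmersion (Sigma.ι (fun i => (sp k (R i)).left) i))
  have hcov : ∀ x : D.left, ∃ i, x ∈ Set.range (inD i).left := fun x => by
    obtain ⟨i, y, hy⟩ := (sigmaOpenCover fun i => (sp k (R i)).left).exists_eq x
    exact ⟨i, y, hy⟩
  -- separation
  have hPsep : ∀ {Z : Over (Spec (CommRingCat.of k))} {x y : P.obj.obj (op Z)},
      (∀ z : Z.left, ∃ (C : Type u) (_ : CommRing C) (_ : Algebra k C) (e : sp k C ⟶ Z),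
        IsOpenImmersion e.left ∧ z ∈ Set.range e.left ∧ P.obj.map e.op x = P.obj.map e.op y) → x = y := by
    intro Z x y h
    choose C ic ia e he hz hxy using h
    exact GaBidualLib.eq_of_cover P e (mem_of_cover e he fun z => ⟨z, hz z⟩) hxy
  have hDsh : ∀ {Z : Over (Spec (CommRingCat.of k))} (S : Sieve Z),
      S ∈ QuotSh.J Scheme.fppfPrecoverage (Spec (CommRingCat.of k)) Z →
      Presieve.IsSheafFor (yoneda.obj D) (S : Presieve Z) := fun S hS =>
    GrothendieckTopology.Subcanonical.isSheaf_of_isRepresentable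
      (J := QuotSh.J Scheme.fppfPrecoverage (Spec (CommRingCat.of k))) (yoneda.obj D) S hS
  -- an affine piece around a point inside an open
  have hpiece : ∀ (Z : Over (Spec (CommRingCat.of k))) (z : Z.left) (V : Z.left.Opens), z ∈ V →
      ∃ (C : Type u) (_ : CommRing C) (_ : Algebra k C) (e : sp k C ⟶ Z),
        IsOpenImmersion e.left ∧ z ∈ Set.range e.left ∧ Set.range e.left ⊆ V := by
    intro Z z V hzV
    obtain ⟨U, hU, hzU, hUV⟩ := AlgebraicGeometry.exists_isAffineOpen_mem_and_subset hzV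
    haveI : IsAffine (Over.mk (U.ι ≫ Z.hom)).left := hU
    obtain ⟨C, _, _, ⟨eU⟩⟩ := AntiAffLib.exists_sp_iso (Over.mk (U.ι ≫ Z.hom))
    haveI : IsIso eU.hom.left := inferInstanceAs (IsIso ((Over.forget _).map eU.hom))
    let eZ : Over.mk (U.ι ≫ Z.hom) ⟶ Z := Over.homMk U.ι rfl
    refine ⟨C, inferInstance, inferInstance, eU.hom ≫ eZ, ?_, ⟨eU.inv.left ⟨z, hzU⟩, ?_⟩, ?_⟩
    · rw [Over.comp_left]
      exact inferInstanceAs (IsOpenImmersion (eU.hom.left ≫ U.ι))
    · have h1 : eU.inv.left ≫ eU.hom.left = 𝟙 _ := by rw [← Over.comp_left, eU.inv_hom_id]; rfl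
      show U.ι ((eU.inv.left ≫ eU.hom.left) ⟨z, hzU⟩) = z
      rw [h1]
      rfl
    · rintro _ ⟨w, rfl⟩
      exact hUV (eU.hom.left w).2
  -- lifting to a component
  have hlift : ∀ {C : Type u} [CommRing C] [Algebra k C] (p : sp k C ⟶ D) (i : I),
      Set.range p.left ⊆ Set.range (inD i).left → ∃ φ : R i →ₐ[k] C, p = pt φ ≫ inD i := by
    intro C _ _ p i hp
    haveI := hoi i
    let l := IsOpenImmersion.lift (inD i).left p.left hp
    have hl : l ≫ (inD i).left = p.left := IsOpenImmersion.lift_fac _ _ _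
    obtain ⟨φ, hφ⟩ := Groth.Agent.DiagRep.exists_pt (Over.homMk l (by
      rw [← Over.w (inD i), ← Category.assoc, hl, Over.w]) : sp k C ⟶ sp k (R i))
    exact ⟨φ, Over.OverMorphism.ext (by rw [← hφ, Over.comp_left]; exact hl.symm)⟩
  -- the universal section
  obtain ⟨U₀, hU₀⟩ : ∃ U₀ : P.obj.obj (op D), ∀ i, P.obj.map (inD i).op U₀ = t i := by
    have hcompat : Presieve.Arrows.Compatible
        (((sheafCompose (QuotSh.J Scheme.fppfPrecoverage (Spec (CommRingCat.of k))) (forget AddCommGrpCat.{u + 1})).obj P).obj)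
        inD t := by
      intro i j Z a b hab
      show P.obj.map a.op (t i) = P.obj.map b.op (t j)
      by_cases hij : i = j
      · subst hij
        haveI := hoi i
        have : a = b := Over.OverMorphism.ext ((cancel_mono (inD i).left).1 (congrArg Over.Hom.left hab))
        rw [this]
      · haveI : IsEmpty Z.left := isEmpty_of_commSq_sigmaι_of_ne
          (g := fun i => (sp k (R i)).left) (a := a.left) (b := b.left) ⟨congrArg Over.Hom.left hab⟩ hij
        exact hPsep fun z => IsEmpty.elim ‹_› z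
    have hs := ((isSheaf_iff_isSheaf_of_type _ _).1
      ((sheafCompose (QuotSh.J Scheme.fppfPrecoverage (Spec (CommRingCat.of k))) (forget AddCommGrpCat.{u + 1})).obj P).property
      _ (mem_of_cover inD hoi hcov))
    rw [← Presieve.isSheafFor_iff_generate, Presieve.isSheafFor_arrows_iff] at hs
    obtain ⟨U₀, hU₀, -⟩ := hs t hcompat
    exact ⟨U₀, hU₀⟩
  let Φ : ∀ Z : Over (Spec (CommRingCat.of k)), (Z ⟶ D) → P.obj.obj (op Z) := fun Z p => P.obj.map p.op U₀
  have hΦ : ∀ {Z Z' : Over (Spec (CommRingCat.of k))} (f : Z' ⟶ Z) (p : Z ⟶ D),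
      Φ Z' (f ≫ p) = P.obj.map f.op (Φ Z p) := fun f p => (GmExtLib.map_map f p U₀).symm
  have hΦin : ∀ {C : Type u} [CommRing C] [Algebra k C] (i : I) (φ : R i →ₐ[k] C),
      Φ _ (pt φ ≫ inD i) = P.obj.map (pt φ).op (t i) := fun {C} _ _ i φ => by
    rw [hΦ]
    exact congrArg _ (hU₀ i)
  -- injectivity
  have hΦinj : ∀ Z, Function.Injective (Φ Z) := by
    intro Z p p' hpp
    have hz : ∀ z : Z.left, ∃ (C : Type u) (_ : CommRing C) (_ : Algebra k C) (e : sp k C ⟶ Z),
        IsOpenImmersion e.left ∧ z ∈ Set.range e.left ∧ e ≫ p = e ≫ p' := by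
      intro z
      obtain ⟨i, hi⟩ := hcov (p.left z)
      obtain ⟨j, hj⟩ := hcov (p'.left z)
      haveI := hoi i
      haveI := hoi j
      obtain ⟨C, _, _, e, he, hze, hsub⟩ := hpiece Z z
        (p.left ⁻¹ᵁ (inD i).left.opensRange ⊓ p'.left ⁻¹ᵁ (inD j).left.opensRange) ⟨hi, hj⟩
      obtain ⟨φ, hφ⟩ := hlift (e ≫ p) i (by
        rintro _ ⟨w, rfl⟩
        exact (hsub ⟨w, rfl⟩).1)
      obtain ⟨ψ, hψ⟩ := hlift (e ≫ p') j (by
        rintro _ ⟨w, rfl⟩
        exact (hsub ⟨w, rfl⟩).2)
      have h1 : P.obj.map (pt φ).op (t i) = P.obj.map (pt ψ).op (t j) := by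
        rw [← hΦin, ← hΦin, ← hφ, ← hψ, hΦ, hΦ, hpp]
      have hij : i = j := by
        by_contra hne
        haveI := hdisj C i j φ ψ hne h1
        obtain ⟨w, -⟩ := hze
        exact IsEmpty.elim (inferInstanceAs (IsEmpty (PrimeSpectrum C))) w
      subst hij
      exact ⟨C, inferInstance, inferInstance, e, he, hze, by rw [hφ, hψ, hinj C i φ ψ h1]⟩
    choose C ic ia e he hze hpe using hz
    refine (hDsh _ (mem_of_cover e he fun z => ⟨z, hze z⟩)).isSeparatedFor.ext fun V m hm => ?_
    obtain ⟨z, a, rfl⟩ := (Sieve.mem_ofArrows_iff _ _ m).1 hm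
    show (a ≫ e z) ≫ p = (a ≫ e z) ≫ p'
    rw [Category.assoc, Category.assoc, hpe]
  -- surjectivity
  have hΦsurj : ∀ Z, Function.Surjective (Φ Z) := by
    intro Z x
    have hz : ∀ z : Z.left, ∃ (C : Type u) (_ : CommRing C) (_ : Algebra k C) (e : sp k C ⟶ Z) (q : sp k C ⟶ D),
        IsOpenImmersion e.left ∧ z ∈ Set.range e.left ∧ Φ _ q = P.obj.map e.op x := by
      intro z
      obtain ⟨C, _, _, e, he, ⟨w, hw⟩, -⟩ := hpiece Z z ⊤ trivial
      obtain ⟨g, hg, i, φ, hφ⟩ := hloc C (P.obj.map e.op x) w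
      haveI := he
      haveI := isOpenImmersion_away (k := k) g
      refine ⟨Localization.Away g, inferInstance, inferInstance,
        pt (IsScalarTower.toAlgHom k C (Localization.Away g)) ≫ e, pt φ ≫ inD i, ?_, ?_, ?_⟩
      · rw [Over.comp_left]
        infer_instance
      · obtain ⟨w', hw'⟩ := mem_range_away (k := k) g w hg
        exact ⟨w', by rw [Over.comp_left, Scheme.Hom.comp_apply]; exact (congrArg _ hw').trans hw⟩
      · rw [hΦin, hφ, GmExtLib.map_map]
    choose C ic ia e q he hze hq using hz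
    have hcompat : Presieve.Arrows.Compatible (yoneda.obj D) e q := by
      intro z z' W a b hab
      show a ≫ q z = b ≫ q z'
      exact hΦinj W (by rw [hΦ, hΦ, hq, hq, GmExtLib.map_map, GmExtLib.map_map, hab])
    have hs := hDsh _ (mem_of_cover e he fun z => ⟨z, hze z⟩)
    rw [← Presieve.isSheafFor_iff_generate, Presieve.isSheafFor_arrows_iff] at hs
    obtain ⟨p, hp, -⟩ := hs q hcompat
    refine ⟨p, GaBidualLib.eq_of_cover P e (mem_of_cover e he fun z => ⟨z, hze z⟩) fun z => ?_⟩
    rw [← hΦ, ← hq]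
    exact congrArg (Φ _) (hp z)
  -- the group structure
  let eqv : ∀ Z : Over (Spec (CommRingCat.of k)), (Z ⟶ D) ≃ Multiplicative (P.obj.obj (op Z)) := fun Z =>
    (Equiv.ofBijective (Φ Z) ⟨hΦinj Z, hΦsurj Z⟩).trans Multiplicative.ofAdd
  let F : (Over (Spec (CommRingCat.of k)))ᵒᵖ ⥤ GrpCat.{u} :=
    { obj := fun Z => letI := (eqv Z.unop).group; GrpCat.of (Z.unop ⟶ D)
      map := fun {Z Z'} f =>
        letI := (eqv Z.unop).group
        letI := (eqv Z'.unop).group
        GrpCat.ofHom (MonoidHom.mk' (fun p => f.unop ≫ p) fun p p' => by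
          apply (eqv Z'.unop).injective
          show Multiplicative.ofAdd (Φ _ (f.unop ≫ (eqv Z.unop).symm (eqv Z.unop p * eqv Z.unop p'))) =
            eqv Z'.unop ((eqv Z'.unop).symm (eqv Z'.unop (f.unop ≫ p) * eqv Z'.unop (f.unop ≫ p')))
          rw [Equiv.apply_symm_apply]
          show Multiplicative.ofAdd (Φ _ (f.unop ≫ (eqv Z.unop).symm (eqv Z.unop p * eqv Z.unop p'))) =
            Multiplicative.ofAdd (Φ _ (f.unop ≫ p) + Φ _ (f.unop ≫ p'))
          rw [hΦ, hΦ, hΦ, ← map_add]
          exact congrArg (fun v => Multiplicative.ofAdd (P.obj.map f.unop.op v))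
            (congrArg Multiplicative.toAdd ((eqv Z.unop).apply_symm_apply (eqv Z.unop p * eqv Z.unop p'))))
      map_id := fun Z => GrpCat.ext fun p => Category.id_comp p
      map_comp := fun f g => GrpCat.ext fun p => Category.assoc _ _ p }
  let α : (F ⋙ forget GrpCat).RepresentableBy D :=
    { homEquiv := Equiv.refl _
      homEquiv_comp := fun f g => rfl }
  letI hgrp : GrpObj D := GrpObj.ofRepresentableBy D F α
  have hmul : ∀ (Z : Over (Spec (CommRingCat.of k))) (p p' : Z ⟶ D), Φ Z (p * p') = Φ Z p + Φ Z p' := by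
    intro Z p p'
    have hμ : Φ _ (μ[D]) = Φ _ (fst D D) + Φ _ (snd D D) :=
      congrArg Multiplicative.toAdd ((eqv (D ⊗ D)).apply_symm_apply (eqv _ (fst D D) * eqv _ (snd D D)))
    rw [Hom.mul_def, hΦ, hμ, map_add, ← hΦ, ← hΦ, lift_fst, lift_snd]
  haveI hcomm : IsCommMonObj D := by
    constructor
    have h : μ[D] = fst D D * snd D D := by rw [Hom.mul_def, lift_fst_snd, Category.id_comp]
    rw [h, MonObj.comp_mul]
    refine hΦinj _ ?_
    rw [hmul, hmul, add_comm]
    simp [BraidedCategory.braiding, braiding_hom_fst, braiding_hom_snd]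
  refine ⟨D, hgrp, hcomm, hlft, ⟨?_⟩⟩
  refine (fullyFaithfulSheafToPresheaf _ _).preimageIso
    (NatIso.ofComponents (fun Z => AddEquiv.toAddCommGrpIso
      (show (CGrpSh.pts Scheme.fppfPrecoverage D).obj.obj (op Z.unop) ≃+ P.obj.obj (op Z.unop) from
      { toFun := fun x => Φ Z.unop x.down.toMul
        invFun := fun y => ULift.up (Additive.ofMul (Function.surjInv (hΦsurj Z.unop) y))
        left_inv := fun x => ULift.ext _ _ (congrArg Additive.ofMul (hΦinj _ (Function.surjInv_eq (hΦsurj Z.unop) _)))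
        right_inv := fun y => Function.surjInv_eq (hΦsurj Z.unop) y
        map_add' := fun x y => hmul Z.unop x.down.toMul y.down.toMul }))
      fun {Z Z'} f => AddCommGrpCat.ext fun x => hΦ f.unop x.down.toMul)

end GmReprLib
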