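import Groth.Agent.GmAlmostLib.Unit

/-!
Group-like units give homomorphisms to the multiplicative group, and conversely.
-/

set_option autoImplicit false
set_option backward.isDefEq.respectTransparency false
set_option linter.style.haveILetI false
set_option maxHeartbeats 1600000
universe u

open CategoryTheory CategoryTheory.Limits MonoidalCategory CartesianMonoidalCategory AlgebraicGeometry Opposite CoactBr
open GmCharLib (uSec uSec_mul uSec_bijective uVal uSec_uVal map_uSec)
open GmVanishLib (shf shfMap fns fns_comp_pt fns_injective)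
open GmBidualLib (wpair wpair_left wpair_right comp_wpair pair_ext)
open Groth.Agent.TorusField
open scoped MonObj TensorProduct

attribute [local instance] CoactBr.braidedAlgSpecOf
attribute [-instance] CategoryTheory.Hom.commGroup

noncomputable section

namespace GmReprLib

variable {k : Type u} [Field k] {X : Type u} [CommRing X] [HopfAlgebra k X] [Coalgebra.IsCocomm k X]
  {C : Type u} [CommRing C] [Algebra k C] (u₀ : (C ⊗[k] X)ˣ) (hu : IsGL k X C (u₀ : C ⊗[k] X))

/-- The value of a group-like unit on a pair of points. -/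
def gval {Z : Over (Spec (CommRingCat.of k))} (z : Z ⟶ sp k C) (x : Z ⟶ sp k X) :
    (GmExtLib.G (Spec (CommRingCat.of k))).obj.obj (op Z) :=
  (GmExtLib.G (Spec (CommRingCat.of k))).obj.map (wpair z x).op (uSec (C ⊗[k] X) u₀)

theorem map_gval {Z Z' : Over (Spec (CommRingCat.of k))} (φ : Z' ⟶ Z) (z : Z ⟶ sp k C) (x : Z ⟶ sp k X) :
    (GmExtLib.G (Spec (CommRingCat.of k))).obj.map φ.op (gval u₀ z x) = gval u₀ (φ ≫ z) (φ ≫ x) := by
  rw [gval, gval, GmExtLib.map_map, comp_wpair]

include hu in
theorem gval_mul {Z : Over (Spec (CommRingCat.of k))} (z : Z ⟶ sp k C) (x y : Z ⟶ sp k X) :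
    gval u₀ z (x * y) = gval u₀ z x + gval u₀ z y := by
  let t : Z ⟶ sp k (C ⊗[k] (X ⊗[k] X)) := wpair z (wpair x y)
  let f : (X →ₐ[k] X ⊗[k] X) → (C ⊗[k] X →ₐ[k] C ⊗[k] (X ⊗[k] X)) := fun g =>
    Algebra.TensorProduct.map (AlgHom.id k C) g
  have hp : ∀ g : X →ₐ[k] X ⊗[k] X, t ≫ pt (f g) = wpair z (wpair x y ≫ pt g) := fun g => by
    refine pair_ext ?_ ?_
    · rw [wpair_left, Category.assoc, ← pt_comp]
      have e : (f g).comp (Algebra.TensorProduct.includeLeft : C →ₐ[k] C ⊗[k] X) =
          (Algebra.TensorProduct.includeLeft : C →ₐ[k] C ⊗[k] (X ⊗[k] X)) := AlgHom.ext fun l => by simp [f]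
      rw [e, wpair_left]
    · rw [wpair_right, Category.assoc, ← pt_comp]
      have e : (f g).comp (Algebra.TensorProduct.includeRight : X →ₐ[k] C ⊗[k] X) =
          (Algebra.TensorProduct.includeRight : X ⊗[k] X →ₐ[k] C ⊗[k] (X ⊗[k] X)).comp g :=
        AlgHom.ext fun a => by simp [f]
      rw [e, pt_comp, ← Category.assoc, wpair_right]
  have hm : pt (Algebra.TensorProduct.includeLeft : X →ₐ[k] X ⊗[k] X) * pt Algebra.TensorProduct.includeRight =
      pt (Bialgebra.comulAlgHom k X) := by
    rw [Groth.Agent.DiagRep.pt_mul_conv, ← Groth.Agent.DiagRep.toConv_comul]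
  have hxy : x * y = wpair x y ≫ pt (Bialgebra.comulAlgHom k X) := by
    rw [← hm, MonObj.comp_mul, wpair_left, wpair_right]
  have h1 : Units.map (f (Bialgebra.comulAlgHom k X)).toRingHom.toMonoidHom u₀ =
      Units.map (f Algebra.TensorProduct.includeLeft).toRingHom.toMonoidHom u₀ *
        Units.map (f Algebra.TensorProduct.includeRight).toRingHom.toMonoidHom u₀ := Units.ext hu.1
  conv_lhs => rw [gval, hxy, ← hp, ← GmExtLib.map_map, map_uSec, h1, uSec_mul, map_add, ← map_uSec, ← map_uSec,
    GmExtLib.map_map, GmExtLib.map_map, hp, hp, wpair_left, wpair_right]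
  rfl

/-- The homomorphism of a group-like unit. -/
def chi : CategoryTheory.Sheaf.over (shf (k := k) X) (sp k C) ⟶
    CategoryTheory.Sheaf.over (GmExtLib.G (Spec (CommRingCat.of k))) (sp k C) :=
  letI : ∀ Z : Over (Spec (CommRingCat.of k)), CommGroup (Z ⟶ sp k X) := fun _ => CategoryTheory.Hom.commGroup
  letI : ∀ Z : Over (Spec (CommRingCat.of k)), CommGroup (Z ⟶ Red.Gm (Spec (CommRingCat.of k))) := fun _ =>
    CategoryTheory.Hom.commGroup
  ⟨{ app := fun W => AddCommGrpCat.ofHom (AddMonoidHom.mk'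
      (show (shf (k := k) X).obj.obj (op W.unop.left) →
          (GmExtLib.G (Spec (CommRingCat.of k))).obj.obj (op W.unop.left) from
        fun s => gval u₀ W.unop.hom s.down.toMul)
      fun s t => gval_mul u₀ hu W.unop.hom s.down.toMul t.down.toMul)
     naturality := fun W W' m => AddCommGrpCat.ext fun s => by
       show gval u₀ W'.unop.hom (m.unop.left ≫ _) =
         (GmExtLib.G (Spec (CommRingCat.of k))).obj.map m.unop.left.op (gval u₀ W.unop.hom _)
       rw [map_gval, Over.w m.unop]
       rfl }⟩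

theorem cu_chi : GmAlmostLib.cu (chi u₀ hu) = u₀ := by
  refine (uSec_bijective (k := k) _).1 ?_
  rw [GmAlmostLib.cu, uSec_uVal]
  show gval u₀ (pt (Algebra.TensorProduct.includeLeft : C →ₐ[k] C ⊗[k] X))
    (pt (Algebra.TensorProduct.includeRight : X →ₐ[k] C ⊗[k] X)) = _
  have e : wpair (pt (Algebra.TensorProduct.includeLeft : C →ₐ[k] C ⊗[k] X))
      (pt (Algebra.TensorProduct.includeRight : X →ₐ[k] C ⊗[k] X)) = 𝟙 (sp k (C ⊗[k] X)) :=
    pair_ext (by rw [wpair_left, Category.id_comp]) (by rw [wpair_right, Category.id_comp])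
  rw [gval, e, op_id, CategoryTheory.Functor.map_id]
  rfl

end GmReprLib
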