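import Groth.Agent.GmReprLib.Classes
import Groth.Agent.MultUnipLib.Act
import Mathlib.RingTheory.HopfAlgebra.TensorProduct

/-!
Group-like elements supported on a finite idempotent piece are represented by a finite algebra.
-/

set_option autoImplicit false
set_option maxHeartbeats 1600000

noncomputable section

universe u

open scoped TensorProduct
open Groth.Agent.TorusField Groth.Agent.QIso Groth.Agent.MultUnip WithConv ComodLib

namespace GmReprLib

variable {k : Type u} [Field k] {A : Type u} [CommRing A] [HopfAlgebra k A] [Coalgebra.IsCocomm k A]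

theorem apply_actR (δ : WithConv (A →ₗ[k] k)) (f : A →ₗ[k] k) (a : A) :
    δ.ofConv (actR f a) = (δ * toConv f).ofConv a := by
  show δ.ofConv (slice f (CoalgebraStruct.comul (R := k) a)) =
    LinearMap.mul' k k (TensorProduct.map δ.ofConv f (CoalgebraStruct.comul (R := k) a))
  generalize CoalgebraStruct.comul (R := k) a = z
  induction z using TensorProduct.induction_on with
  | zero => simp
  | add x y hx hy => simp only [map_add, hx, hy]
  | tmul x y => simp [mul_comm]

/-- An element with multiplicative evaluation is group-like. -/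
theorem isGL_of_extFun {R : Type u} [CommRing R] [Algebra k R] (y : R ⊗[k] A)
    (h1 : extFun R (1 : WithConv (A →ₗ[k] k)).ofConv y = 1)
    (hm : ∀ δ δ' : WithConv (A →ₗ[k] k),
      extFun R (δ * δ').ofConv y = extFun R δ.ofConv y * extFun R δ'.ofConv y) :
    IsGL k A R y := by
  constructor
  · let b := Module.Basis.ofVectorSpace k A
    refine (Algebra.TensorProduct.basis R (b.tensorProduct b)).repr.injective (Finsupp.ext fun p => ?_)
    obtain ⟨i, j⟩ := p
    have hd : extFun R ((b.tensorProduct b).coord (i, j)) (D k A R y) =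
        extFun R (toConv (b.coord i) * toConv (b.coord j)).ofConv y := by
      generalize y = z
      induction z using TensorProduct.induction_on with
      | zero => simp
      | add x y hx hy => simp only [map_add, hx, hy]
      | tmul s x =>
        simp only [D, Algebra.TensorProduct.map_tmul, AlgHom.id_apply, extFun_tmul, Bialgebra.comulAlgHom_apply,
          LinearMap.convMul_def, ofConv_toConv, LinearMap.comp_apply]
        congr 1
        generalize CoalgebraStruct.comul (R := k) x = w
        induction w using TensorProduct.induction_on with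
        | zero => simp
        | add x y hx hy => simp only [map_add, hx, hy]
        | tmul p q => simp [mul_comm]
    have hj : ∀ u v, extFun R ((b.tensorProduct b).coord (i, j)) (J₁ k A R u * J₂ k A R v) =
        extFun R (b.coord i) u * extFun R (b.coord j) v := by
      intro u v
      induction u using TensorProduct.induction_on with
      | zero => simp
      | add x y hx hy => simp only [map_add, add_mul, hx, hy]
      | tmul s p =>
        induction v using TensorProduct.induction_on with
        | zero => simp
        | add x y hx hy => simp only [map_add, mul_add, hx, hy]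
        | tmul t q =>
          simp [J₁, J₂, extFun_tmul]
          rw [mul_smul]
    rw [extFun_basis, extFun_basis, hd, hj, hm]
  · refine Eq.trans ?_ h1
    generalize y = z
    induction z using TensorProduct.induction_on with
    | zero => simp
    | add a b ha hb => simp only [map_add, ha, hb]
    | tmul s b => simp [extFun_tmul, ev1, LinearMap.convOne_def, Algebra.smul_def, mul_comm]

/-- The universal group-like element on an idempotent piece. -/
theorem exists_piece (e : WithConv (A →ₗ[k] k)) (he : e * e = e)
    [Module.Finite k (LinearMap.range (actR e.ofConv))] :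
    ∃ (R : Type u) (_ : CommRing R) (_ : Algebra k R) (y₀ : R ⊗[k] A),
      Module.Finite k R ∧ IsGL k A R y₀ ∧ extFun R e.ofConv y₀ = 1 ∧
      (∀ (C : Type u) [CommRing C] [Algebra k C] (φ ψ : R →ₐ[k] C), push φ y₀ = push ψ y₀ → φ = ψ) ∧
      ∀ (C : Type u) [CommRing C] [Algebra k C] (y : C ⊗[k] A), IsGL k A C y → extFun C e.ofConv y = 1 →
        ∃ φ : R →ₐ[k] C, push φ y₀ = y := by
  classical
  obtain ⟨R, _, _, cls, hcls, hker⟩ : ∃ (R : Type u) (_ : CommRing R) (_ : Algebra k R)
      (cls : WithConv (A →ₗ[k] k) →ₐ[k] R), Function.Surjective cls ∧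
        ∀ δ, cls δ = 0 ↔ (1 - e) ∣ δ :=
    ⟨WithConv (A →ₗ[k] k) ⧸ Ideal.span {1 - e}, inferInstance, inferInstance,
      Ideal.Quotient.mkₐ k (Ideal.span {1 - e}), Ideal.Quotient.mkₐ_surjective k _,
      fun δ => Ideal.Quotient.eq_zero_iff_mem.trans Ideal.mem_span_singleton⟩
  have hmem : ∀ δ, cls (δ * e) = cls δ := fun δ => by
    rw [← sub_eq_zero, ← map_sub, hker]
    exact ⟨-δ, by ring⟩
  let P := actR e.ofConv
  let bs := Module.finBasis k (LinearMap.range P)
  let f : Fin (Module.finrank k (LinearMap.range P)) → WithConv (A →ₗ[k] k) := fun i =>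
    toConv (bs.coord i ∘ₗ P.rangeRestrict)
  let y₀ : R ⊗[k] A := ∑ i, cls (f i) ⊗ₜ[k] (bs i : A)
  have hev : ∀ δ, extFun R δ.ofConv y₀ = cls δ := by
    intro δ
    have h1 : δ * e = ∑ i, δ.ofConv (bs i : A) • f i := by
      refine WithConv.ext (LinearMap.ext fun a => ?_)
      rw [← toConv_ofConv e, ← apply_actR, WithConv.ofConv_sum]
      have h2 := congrArg (δ.ofConv ∘ₗ (LinearMap.range P).subtype) (bs.sum_repr (P.rangeRestrict a))
      rw [map_sum] at h2
      refine h2.symm.trans ?_
      simp [f, mul_comm]
    rw [← hmem δ, h1, map_sum, map_sum]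
    exact Finset.sum_congr rfl fun i _ => by rw [extFun_tmul, map_smul]
  refine ⟨R, inferInstance, inferInstance, y₀, ?_, ?_, ?_, ?_, ?_⟩
  · refine ⟨Submodule.fg_def.2 ⟨Set.range fun i => cls (f i), Set.finite_range _, ?_⟩⟩
    refine eq_top_iff.2 fun r _ => ?_
    obtain ⟨δ, rfl⟩ := hcls r
    show cls δ ∈ _
    rw [← hev δ]
    simp only [y₀, map_sum, extFun_tmul]
    exact Submodule.sum_mem _ fun i _ => Submodule.smul_mem _ _ (Submodule.subset_span ⟨i, rfl⟩)
  · exact isGL_of_extFun y₀ (by rw [hev, map_one]) fun δ δ' => by rw [hev, hev, hev, map_mul]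
  · rw [hev, ← one_mul e, hmem, map_one]
  · intro C _ _ φ ψ h
    refine AlgHom.ext fun r => ?_
    obtain ⟨δ, rfl⟩ := hcls r
    show φ (cls δ) = ψ (cls δ)
    rw [← hev, extFun_push, extFun_push, h]
  · intro C _ _ y hy he1
    obtain ⟨φ, hφ⟩ : ∃ φ : R →ₐ[k] C, ∀ δ, φ (cls δ) = evalHom hy δ := by
      let g := Function.surjInv hcls
      have hg : ∀ δ, evalHom hy (g (cls δ)) = evalHom hy δ := fun δ => by
        have h0 : cls (g (cls δ) - δ) = 0 := by rw [map_sub, Function.surjInv_eq hcls, sub_self]
        obtain ⟨c, hc⟩ := (hker _).1 h0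
        rw [← sub_eq_zero, ← map_sub, hc, map_mul, map_sub, map_one, evalHom_apply hy e, he1, sub_self, zero_mul]
      refine ⟨AlgHom.mk' ⟨⟨⟨fun r => evalHom hy (g r), ?_⟩, fun r r' => ?_⟩, ?_, fun r r' => ?_⟩ fun c r => ?_, hg⟩
      · rw [← map_one cls, hg, map_one]
      · obtain ⟨δ, rfl⟩ := hcls r; obtain ⟨δ', rfl⟩ := hcls r'
        show evalHom hy (g (cls δ * cls δ')) = evalHom hy (g (cls δ)) * evalHom hy (g (cls δ'))
        rw [← map_mul cls, hg, hg, hg, map_mul]
      · show evalHom hy (g 0) = 0
        rw [← map_zero cls, hg, map_zero]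
      · obtain ⟨δ, rfl⟩ := hcls r; obtain ⟨δ', rfl⟩ := hcls r'
        show evalHom hy (g (cls δ + cls δ')) = evalHom hy (g (cls δ)) + evalHom hy (g (cls δ'))
        rw [← map_add cls, hg, hg, hg, map_add]
      · obtain ⟨δ, rfl⟩ := hcls r
        show evalHom hy (g (c • cls δ)) = c • evalHom hy (g (cls δ))
        rw [← map_smul cls, hg, hg, map_smul]
    refine ⟨φ, ext_extFun fun δ => ?_⟩
    rw [← extFun_push, show δ = (toConv δ).ofConv from rfl, hev, hφ]
    exact evalHom_apply hy _

end GmReprLib
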