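import Groth.Agent.GmReprLib.Finite
import Groth.Agent.GmReprLib.Univ
import Groth.Agent.GmReprLib.Hom
import Groth.Agent.GmReprLib.Glue
import Mathlib.RingTheory.HopfAlgebra.GroupLike

/-!
The dual of an almost torus is representable.
-/

set_option autoImplicit false
set_option backward.isDefEq.respectTransparency false
set_option linter.style.haveILetI false
set_option maxHeartbeats 1600000
universe u

open CategoryTheory CategoryTheory.Limits MonoidalCategory CartesianMonoidalCategory AlgebraicGeometry Opposite CoactBr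
open GmVanishLib (shf)
open GmAlmostLib (cu)
open Groth.Agent.TorusField Groth.Agent.QIso Groth.Agent.MultUnip
open WithConv
open scoped MonObj TensorProduct

attribute [local instance] CoactBr.braidedAlgSpecOf
attribute [-instance] CategoryTheory.Hom.commGroup

noncomputable section

namespace GmReprLib

variable {k : Type u} [Field k] {A : Type u} [CommRing A] [HopfAlgebra k A] [Coalgebra.IsCocomm k A]
  {H : Type u} [CommRing H] [HopfAlgebra k H] [Coalgebra.IsCocomm k H]
  {K : Type u} [Field K] [Algebra k K] [Algebra.IsAlgebraic k K]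
  {M : Type u} [AddCommGroup M] {C' : Type u} [CommRing C'] [HopfAlgebra k C'] [Module.Finite k C']

/-- The dual of a group with a cofinite split subgroup is representable. -/
theorem exists_repr_dual (q : A →ₐc[k] H) (hq : Function.Surjective q) (φ : C' →ₐc[k] A)
    (hker : RingHom.ker (q : A →+* H) ≤ Ideal.map (φ : C' →+* A) (RingHom.ker (Bialgebra.counitAlgHom k C')))
    (E : Groth.Agent.TorusField.Split k H M K) :
    ∃ (D : Over (Spec (CommRingCat.of k))) (_ : GrpObj D) (_ : IsCommMonObj D), LocallyOfFiniteType D.hom ∧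
      Nonempty (CGrpSh.pts Scheme.fppfPrecoverage D ≅
        CGrpSh2.dualSh Scheme.fppfPrecoverage (shf (k := k) A)) := by
  classical
  obtain ⟨I, pr, cl, hidem, horth, hsum, hcl⟩ := exists_classes E
  let ql : A →ₗ[k] H := (q : A →ₐ[k] H).toLinearMap
  let e : I → WithConv (A →ₗ[k] k) := fun i => toConv ((pr i).ofConv ∘ₗ ql)
  have hmul : ∀ i j, e i * e j = toConv ((pr i * pr j).ofConv ∘ₗ ql) := fun i j =>
    WithConv.ext (LinearMap.convMul_comp_coalgHom_distrib (pr i) (pr j) (q : A →ₗc[k] H)).symm
  have he : ∀ i, e i * e i = e i := fun i => by rw [hmul, hidem]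
  have heo : ∀ i j, i ≠ j → e i * e j = 0 := fun i j hij => by
    rw [hmul, horth i j hij]
    rfl
  haveI : ∀ i, Module.Finite k (LinearMap.range (actR (e i).ofConv)) := fun i =>
    finite_actR q hq φ hker E (pr i).ofConv (cl i) (hcl i)
  choose R hRc hRa y₀ hRf hy₀ hone hinjR hfac using fun i => exists_piece (e i) (he i)
  -- the universal sections
  have hunit : ∀ i, IsUnit (y₀ i) := fun i => (Groth.Agent.DiagHopf.groupLike_of_isGL (hy₀ i)).isUnit
  let v : ∀ i, (R i ⊗[k] A)ˣ := fun i => (hunit i).unit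
  have hv : ∀ i, IsGL k A (R i) (v i : R i ⊗[k] A) := hy₀
  let t : ∀ i, (CGrpSh2.dualSh Scheme.fppfPrecoverage (shf (k := k) A)).obj.obj (op (sp k (R i))) :=
    fun i => chi (v i) (hv i)
  have hmapcu : ∀ {C C₁ : Type u} [CommRing C] [Algebra k C] [CommRing C₁] [Algebra k C₁] (f : C →ₐ[k] C₁)
      (χ : CategoryTheory.Sheaf.over (shf (k := k) A) (sp k C) ⟶
        CategoryTheory.Sheaf.over (GmExtLib.G (Spec (CommRingCat.of k))) (sp k C)),
      (cu (((QuotSh.J Scheme.fppfPrecoverage (Spec (CommRingCat.of k))).overMapPullback AddCommGrpCat.{u + 1}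
        (pt f)).map χ) : C₁ ⊗[k] A) = push f (cu χ : C ⊗[k] A) := fun f χ => by
    rw [GmAlmostLib.cu_map]
    rfl
  have ht : ∀ {C : Type u} [CommRing C] [Algebra k C] (i : I) (f : R i →ₐ[k] C),
      (cu (((QuotSh.J Scheme.fppfPrecoverage (Spec (CommRingCat.of k))).overMapPullback AddCommGrpCat.{u + 1}
        (pt f)).map (chi (v i) (hv i))) : C ⊗[k] A) = push f (y₀ i) := fun i f => by
    rw [hmapcu, cu_chi]
    rfl
  refine exists_repr (P := CGrpSh2.dualSh Scheme.fppfPrecoverage (shf (k := k) A)) R t ?_ ?_ ?_ ?_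
  · intro C _ _ _
    refine ⟨fun x x' => ?_⟩
    haveI : Subsingleton (C ⊗[k] A) := Module.subsingleton C _
    exact GmAlmostLib.eq_of_cu_eq x (χ' := x') (Units.ext (Subsingleton.elim _ _))
  · intro C _ _ i j f g hij h
    have h1 := congrArg (fun (χ : CategoryTheory.Sheaf.over (shf (k := k) A) (sp k C) ⟶
        CategoryTheory.Sheaf.over (GmExtLib.G (Spec (CommRingCat.of k))) (sp k C)) => (cu χ : C ⊗[k] A)) h
    have h2 : push f (y₀ i) = push g (y₀ j) := (ht i f).symm.trans (h1.trans (ht j g))
    have hgl := (hy₀ i).push f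
    have hi : extFun C (e i).ofConv (push f (y₀ i)) = 1 := by rw [← extFun_push, hone, map_one]
    have hj : extFun C (e j).ofConv (push f (y₀ i)) = 1 := by rw [h2, ← extFun_push, hone, map_one]
    have h0 := extFun_gl_mul hgl (e i) (e j)
    rw [hi, hj, one_mul, heo i j hij] at h0
    exact subsingleton_of_zero_eq_one (by simpa [extFun] using h0)
  · intro C _ _ i f g h
    have h1 := congrArg (fun (χ : CategoryTheory.Sheaf.over (shf (k := k) A) (sp k C) ⟶
        CategoryTheory.Sheaf.over (GmExtLib.G (Spec (CommRingCat.of k))) (sp k C)) => (cu χ : C ⊗[k] A)) h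
    exact hinjR i C f g ((ht i f).symm.trans (h1.trans (ht i g)))
  · intro C _ _ x p
    let χ : CategoryTheory.Sheaf.over (shf (k := k) A) (sp k C) ⟶
      CategoryTheory.Sheaf.over (GmExtLib.G (Spec (CommRingCat.of k))) (sp k C) := x
    have hgl : IsGL k A C (cu χ : C ⊗[k] A) := GmAlmostLib.isGL_cu χ
    let c : I → C := fun i => extFun C (e i).ofConv (cu χ : C ⊗[k] A)
    have hsumC : ∀ z : C ⊗[k] A, ∃ F : Finset I, ∀ G, F ⊆ G →
        ∑ i ∈ G, extFun C (e i).ofConv z = extFun C (1 : WithConv (A →ₗ[k] k)).ofConv z := by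
      intro z
      induction z using TensorProduct.induction_on with
      | zero => exact ⟨∅, fun G _ => by simp⟩
      | add x y hx hy =>
        obtain ⟨F, hF⟩ := hx
        obtain ⟨F', hF'⟩ := hy
        refine ⟨F ∪ F', fun G hG => ?_⟩
        simp only [map_add, Finset.sum_add_distrib]
        rw [hF G (Finset.union_subset_left hG), hF' G (Finset.union_subset_right hG)]
      | tmul s a =>
        obtain ⟨F, hF⟩ := hsum (q a)
        refine ⟨F, fun G hG => ?_⟩
        simp only [extFun_tmul, ← Finset.sum_smul]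
        refine congrArg (· • s) ?_
        show ∑ i ∈ G, (pr i).ofConv (q a) = _
        rw [hF G hG, CoalgHomClass.counit_comp_apply]
        simp [LinearMap.convOne_def]
    have h1 : extFun C (1 : WithConv (A →ₗ[k] k)).ofConv (cu χ : C ⊗[k] A) = 1 := by
      rw [← evalHom_apply hgl, map_one]
    obtain ⟨F, hF⟩ := hsumC (cu χ : C ⊗[k] A)
    obtain ⟨i, -, hi⟩ : ∃ i ∈ F, c i ∉ p.asIdeal := by
      by_contra hne
      push Not at hne
      exact p.isPrime.ne_top ((Ideal.eq_top_iff_one _).2 (by
        rw [← h1, ← hF F subset_rfl]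
        exact Submodule.sum_mem _ hne))
    refine ⟨c i, hi, i, ?_⟩
    let ι' : C →ₐ[k] Localization.Away (c i) := IsScalarTower.toAlgHom k C (Localization.Away (c i))
    have hone' : extFun _ (e i).ofConv (push ι' (cu χ : C ⊗[k] A)) = 1 := by
      rw [← extFun_push]
      have hu : IsUnit (ι' (c i)) := IsLocalization.Away.algebraMap_isUnit (c i)
      have h2 : ι' (c i) * ι' (c i) = ι' (c i) := by
        rw [← map_mul, ← extFun_gl_mul hgl, he]
      exact hu.mul_left_cancel (h2.trans (mul_one _).symm)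
    obtain ⟨f, hf⟩ := hfac i _ _ (hgl.push ι') hone'
    refine ⟨f, GmAlmostLib.eq_of_cu_eq _ (Units.ext ?_)⟩
    exact (ht i f).trans (hf.trans (hmapcu ι' χ).symm)

end GmReprLib
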